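import Groth.Prelude.Def_W4c6detectregular2Detect
import Groth.Agent.Ega11.SchemeDimFormula
import Groth.Agent.Cyc90.FlatRelDim
import Mathlib.RingTheory.DiscreteValuationRing.TFAE

/-! Pointwise relative dimension on integral schemes. -/

set_option autoImplicit false
universe u

open CategoryTheory AlgebraicGeometry TopologicalSpace W4c6detectregular2

namespace Groth.Agent.DetReg4

variable {X Y S : Scheme.{u}}

theorem trdegPt_eq_fdeg (p : X ⟶ S) [LocallyOfFiniteType p] (x : X) : trdegPt p x = E4O.fdeg p x := by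
  letI := (p.residueFieldMap x).hom.toAlgebra
  rw [trdegPt, Cyc90.trdeg_residueField_eq_fdeg p x, Cardinal.toNat_natCast]

theorem exists_nat_dim [IsLocallyNoetherian S] (s : S) :
    ∃ n : ℕ, ringKrullDim (S.presheaf.stalk s) = n ∧ codimPt S s = n := by
  obtain ⟨n, hn⟩ : ∃ n : ℕ, ringKrullDim (S.presheaf.stalk s) = n := by
    have h1 := ringKrullDim_ne_bot (R := S.presheaf.stalk s)
    have h2 := ringKrullDim_ne_top (R := S.presheaf.stalk s)
    cases h : ringKrullDim (S.presheaf.stalk s) with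
    | bot => exact absurd h h1
    | coe a =>
      cases a with
      | top => exact absurd h h2
      | coe n => exact ⟨n, rfl⟩
  exact ⟨n, hn, by rw [codimPt, hn]; rfl⟩

/-- The dimension inequality. -/
theorem dimPt_add_le [IrreducibleSpace X] [IsLocallyNoetherian S] (p : X ⟶ S) [LocallyOfFiniteType p] (x : X)
    (k : ℕ) (hk : (k : WithBot ℕ∞) ≤ ringKrullDim (X.presheaf.stalk x)) :
    dimPt p x + k ≤ dimPt p (genericPoint X) := by
  obtain ⟨C, ⟨q, rfl⟩, hA⟩ := E4O.exists_chart p x
  have := hA inferInstance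
  obtain ⟨m, hm, hle, hrel⟩ := Ega11.SchemeDimFormula.exists_generic_in_chart C q
  rw [← hm]
  obtain ⟨n₀, hn₀, hc₀⟩ := exists_nat_dim (S := S) (p (C.pt m))
  obtain ⟨n₁, hn₁, hc₁⟩ := exists_nat_dim (S := S) (p (C.pt q))
  rw [C.apply, C.ringKrullDim_stalkY] at hn₀ hn₁
  rw [C.ringKrullDim_stalk, ← hrel] at hk
  have h1 := C.relHeight_add_fdeg_le m q (hle q)
  have h2 := E4O.relHeight_add_le_height (m := PrimeSpectrum.comap (algebraMap C.A C.B) m)
    (q := PrimeSpectrum.comap (algebraMap C.A C.B) q) (Ideal.comap_mono (hle q))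
  rw [show (PrimeSpectrum.comap (algebraMap C.A C.B) m).asIdeal.height = (n₀ : ℕ∞) from by exact_mod_cast hn₀,
    show (PrimeSpectrum.comap (algebraMap C.A C.B) q).asIdeal.height = (n₁ : ℕ∞) from by exact_mod_cast hn₁] at h2
  have hk' : (k : ℕ∞) ≤ E4O.relHeight m q := by exact_mod_cast hk
  have h3 : (n₀ : ℕ∞) + k + E4O.fdeg p (C.pt q) ≤ n₁ + E4O.fdeg p (C.pt m) := by
    calc (n₀ : ℕ∞) + k + E4O.fdeg p (C.pt q) ≤ n₀ + (E4O.relHeight m q + E4O.fdeg p (C.pt q)) := by
          rw [add_assoc]; gcongr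
      _ ≤ n₀ + (E4O.relHeight (PrimeSpectrum.comap (algebraMap C.A C.B) m)
          (PrimeSpectrum.comap (algebraMap C.A C.B) q) + E4O.fdeg p (C.pt m)) := by gcongr
      _ ≤ n₁ + E4O.fdeg p (C.pt m) := by rw [← add_assoc]; gcongr
  have h4 : n₀ + k + E4O.fdeg p (C.pt q) ≤ n₁ + E4O.fdeg p (C.pt m) := by exact_mod_cast h3
  simp only [dimPt, trdegPt_eq_fdeg, hc₀, hc₁]
  omega

theorem one_le_dim_stalk [IsIntegral X] {x : X} (hx : x ≠ genericPoint X) :
    (1 : WithBot ℕ∞) ≤ ringKrullDim (X.presheaf.stalk x) := by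
  rw [ringKrullDim_stalk_eq_coheight]
  have h : x < genericPoint X := lt_of_le_not_ge ((genericPoint_spec X).specializes (Set.mem_univ x))
    fun h' => hx (Specializes.antisymm h' ((genericPoint_spec X).specializes (Set.mem_univ x))).eq
  have h' : 1 ≤ Order.coheight x := Order.one_le_iff_pos.2 (Order.coheight_pos.2 (not_isMax_iff.2 ⟨_, h⟩))
  exact_mod_cast h'

theorem dimLE_of_generic [IrreducibleSpace X] [IsLocallyNoetherian S] (p : X ⟶ S) [LocallyOfFiniteType p] {n : ℤ}
    (h : dimPt p (genericPoint X) ≤ n) : DimLE p n := fun x => by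
  have h0 : ((0 : ℕ) : WithBot ℕ∞) ≤ ringKrullDim (X.presheaf.stalk x) := by
    rw [Nat.cast_zero]; exact ringKrullDim_nonneg_of_nontrivial
  have := dimPt_add_le p x 0 h0
  simp only [Nat.cast_zero, add_zero] at this
  exact this.trans h

theorem trdegPt_comp (g : X ⟶ Y) (p : Y ⟶ S) (x : X) (hg : Function.Bijective (g.residueFieldMap x)) :
    trdegPt (g ≫ p) x = trdegPt p (g x) := by
  letI a1 : Algebra (S.residueField (p (g x))) (Y.residueField (g x)) := (p.residueFieldMap (g x)).hom.toAlgebra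
  letI a2 : Algebra (S.residueField (p (g x))) (X.residueField x) := ((g ≫ p).residueFieldMap x).hom.toAlgebra
  let e : Y.residueField (g x) ≃ₐ[S.residueField (p (g x))] X.residueField x :=
    AlgEquiv.ofRingEquiv (f := RingEquiv.ofBijective (g.residueFieldMap x).hom hg) fun r => by
      change g.residueFieldMap x (p.residueFieldMap (g x) r) = (g ≫ p).residueFieldMap x r
      rw [Scheme.residueFieldMap_comp]
      rfl
  exact (congrArg Cardinal.toNat e.trdeg_eq).symm

theorem dimPt_comp (g : X ⟶ Y) (p : Y ⟶ S) (x : X) (hg : Function.Bijective (g.residueFieldMap x)) :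
    dimPt (g ≫ p) x = dimPt p (g x) := by
  rw [dimPt, dimPt, trdegPt_comp g p x hg]
  rfl

theorem bijective_residueFieldMap_of_preimmersion (g : X ⟶ Y) [IsPreimmersion g] (x : X) :
    Function.Bijective (g.residueFieldMap x) := by
  refine ⟨RingHom.injective _, fun z => ?_⟩
  obtain ⟨a, rfl⟩ := X.residue_surjective x z
  obtain ⟨b, rfl⟩ := g.stalkMap_surjective x a
  refine ⟨Y.residue (g x) b, ?_⟩
  rfl

theorem isRegular_of_isNormal {R : Type u} [CommRing R] [IsDomain R] [IsLocalRing R] [IsNoetherianRing R]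
    [IsIntegrallyClosed R] (h : ringKrullDim R ≤ 1) : IsRegularLocalRing R := by
  have : Ring.KrullDimLE 1 R := Ring.krullDimLE_iff.2 (by exact_mod_cast h)
  have h4 : IsIntegrallyClosed R ∧ ∀ P : Ideal R, P ≠ ⊥ → P.IsPrime → P = IsLocalRing.maximalIdeal R :=
    ⟨inferInstance, fun P hP hPp => IsLocalRing.eq_maximalIdeal
      ((Ring.krullDimLE_one_iff.1 this P hPp).resolve_left fun hmin => hP (by
        rw [IsDomain.minimalPrimes_eq_singleton_bot] at hmin
        exact hmin))⟩
  have hP : IsPrincipalIdealRing R :=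
    ((tfae_of_isNoetherianRing_of_isLocalRing_of_isDomain R).out 0 3).2 h4
  infer_instance

end Groth.Agent.DetReg4
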