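import Groth.Agent.DetReg4.Dim
import Groth.Agent.S4415
import Groth.Agent.S4418
import Groth.Agent.S4452
import Groth.Agent.S9706
import Groth.Agent.S9708
import Groth.Agent.S0385
import Groth.Agent.S2351
import Groth.Agent.S9688
import Groth.Agent.S9833
import Groth.Agent.S0566
import Groth.Agent.S2654
import Groth.Agent.S12460
import Groth.Agent.VarNorm.Sections
import Groth.Agent.CAlg1.NagataAU

/-! Natural transformations killing regular quasi-projective schemes vanish. -/

set_option autoImplicit false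
set_option backward.isDefEq.respectTransparency false
set_option backward.isDefEq.respectTransparency.types false
universe u

open CategoryTheory CategoryTheory.Limits AlgebraicGeometry TopologicalSpace W4c6detectregular2

namespace Groth.Agent.DetReg4

theorem fromSpecStalk_qc_qs (X : Scheme.{u}) [IsLocallyNoetherian X] (x : X) :
    QuasiCompact (X.fromSpecStalk x) ∧ QuasiSeparated (X.fromSpecStalk x) :=
  ⟨inferInstance, inferInstance⟩

variable {S T : Scheme.{u}} [AlgebraicGeometry.IsNoetherian T]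

theorem isNoetherian_obj (Y : SchFT T) : AlgebraicGeometry.IsNoetherian Y.left := by
  obtain ⟨h1, h2, h3⟩ := Y.prop
  have := h1; have := h2
  let h : Y.left ⟶ T := Y.hom
  have : LocallyOfFiniteType h := h1
  have : QuasiCompact h := h2
  have := LocallyOfFiniteType.isLocallyNoetherian h
  have := QuasiCompact.compactSpace_of_compactSpace h
  exact {}

/-- An object from a finite type separated morphism to an object. -/
def objOf {X : Scheme.{u}} (Y : SchFT T) (g : X ⟶ Y.left) [LocallyOfFiniteType g] [QuasiCompact g] [IsSeparated g] :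
    SchFT T :=
  MorphismProperty.Over.mk _ (g ≫ Y.hom) (by
    obtain ⟨h1, h2, h3⟩ := Y.prop
    have := h1; have := h2; have := h3
    exact ⟨inferInstance, inferInstance, inferInstance⟩)

variable (t : T ⟶ S) {G H : ResFun T} (one : ∀ X : SchFT T, G.F.obj X) (φ : G.F ⟶ H.F)

theorem map_app {X Y : SchFT T} (f : Y ⟶ X) (a : G.F.obj Y) :
    (φ.app X).hom ((G.F.map f).hom a) = (H.F.map f).hom ((φ.app Y).hom a) :=
  ConcreteCategory.congr_hom (φ.naturality f) a

/-- Vanishing on the generators gives vanishing. -/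
theorem app_eq_zero_of_gen {X : SchFT T} (P : ∀ Y : SchFT T, Prop)
    (hgen : AddSubgroup.closure {a : G.F.obj X | ∃ (Y : SchFT T) (f : Y ⟶ X), P Y ∧ a = (G.F.map f).hom (one Y)} = ⊤)
    (hP : ∀ Y, P Y → (φ.app Y).hom (one Y) = 0) (a : G.F.obj X) : (φ.app X).hom a = 0 := by
  have h : AddSubgroup.closure {a : G.F.obj X | ∃ (Y : SchFT T) (f : Y ⟶ X), P Y ∧ a = (G.F.map f).hom (one Y)} ≤
      (φ.app X).hom.ker := (AddSubgroup.closure_le _).2 (by
    intro a ha
    obtain ⟨Y, f, hY, rfl⟩ : ∃ (Y : SchFT T) (f : Y ⟶ X), P Y ∧ a = (G.F.map f).hom (one Y) := ha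
    change (φ.app X).hom _ = 0
    rw [map_app φ f, hP Y hY, map_zero])
  rw [hgen] at h
  exact h (AddSubgroup.mem_top a)

variable [LocallyOfFiniteType t] [IsLocallyNoetherian S]

instance lft_struct (Y : SchFT T) : LocallyOfFiniteType (Y.hom ≫ t) := by
  obtain ⟨h1, -, -⟩ := Y.prop
  have := h1
  infer_instance

/-- Descending the vanishing along a birational proper morphism. -/
theorem app_one_eq_zero_of_birational (hG2 : G.F2) (hG3 : G.F3) (hG4a : G.F4a one) (hG4b : G.F4b one)
    (hG5 : G.F5 t one) (n : ℤ)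
    (IH : ∀ W : SchFT T, IsIntegral W.left → DimLE (W.hom ≫ t) (n - 1) → (φ.app W).hom (one W) = 0)
    {Y' Y : SchFT T} (g : Y' ⟶ Y) [IsIntegral Y'.left] [IsIntegral Y.left]
    (hY : dimPt (Y.hom ≫ t) (genericPoint Y.left) ≤ n) (U : Y.left.Opens) (hU : genericPoint Y.left ∈ U)
    [IsIso (g.left ∣_ U)] (h0 : (φ.app Y').hom (one Y') = 0) : (φ.app Y).hom (one Y) = 0 := by
  have := isNoetherian_obj Y
  have := isNoetherian_obj Y'
  let V : Y'.left.Opens := g.left ⁻¹ᵁ U
  let OU : SchFT T := objOf Y U.ι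
  let OV : SchFT T := objOf Y' V.ι
  have : Nonempty U.toScheme := ⟨⟨_, hU⟩⟩
  have : Nonempty V.toScheme := ⟨(inv (g.left ∣_ U)) ⟨_, hU⟩⟩
  have : IsProper g.left := g.prop_hom_left
  have : IsProper (g.left ∣_ U) := inferInstance
  let g' : OV ⟶ OU := MorphismProperty.Over.homMk (g.left ∣_ U) (by
    change (g.left ∣_ U) ≫ U.ι ≫ Y.hom = V.ι ≫ Y'.hom
    rw [morphismRestrict_ι_assoc]
    exact congrArg (V.ι ≫ ·) (MorphismProperty.Over.w g)) inferInstance
  have hsq : G.F.map g ≫ G.res (U := OU) U.ι inferInstance rfl =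
      G.res (U := OV) V.ι inferInstance rfl ≫ G.F.map g' :=
    hG3 (U := OU) (V := OV) U.ι inferInstance rfl V.ι inferInstance rfl g g'
      (isPullback_morphismRestrict g.left U).flip
  have : IsIntegral OV.left := inferInstanceAs (IsIntegral V.toScheme)
  have : IsIntegral OU.left := inferInstanceAs (IsIntegral U.toScheme)
  have hker : (G.res (U := OU) U.ι inferInstance rfl).hom ((G.F.map g).hom (one Y') - one Y) = 0 := by
    rw [map_sub, sub_eq_zero]
    refine (ConcreteCategory.congr_hom hsq (one Y')).trans ?_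
    change (G.F.map g').hom ((G.res (U := OV) V.ι inferInstance rfl).hom (one Y')) = _
    rw [hG4a (U := OV) V.ι inferInstance rfl (Or.inl ‹_›), hG4a (U := OU) U.ι inferInstance rfl (Or.inl ‹_›)]
    exact hG4b g' (inferInstanceAs (IsIso (g.left ∣_ U))) (Or.inl ‹_›)
  let I := Scheme.IdealSheafData.vanishingIdeal ⟨(U : Set Y.left)ᶜ, U.isOpen.isClosed_compl⟩
  let Z : SchFT T := objOf Y I.subschemeι
  let i : Z ⟶ Y := MorphismProperty.Over.homMk I.subschemeι rfl inferInstance
  have hrange : Set.range i.left.base = (Set.range U.ι.base)ᶜ := by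
    change Set.range I.subschemeι = (Set.range U.ι)ᶜ
    rw [Scheme.IdealSheafData.range_subschemeι, Scheme.Opens.range_ι]
    rfl
  obtain ⟨z, hz⟩ := hG2 (Z := Z) (X := Y) (U := OU) i U.ι inferInstance (rfl : U.ι ≫ Y.hom = OU.hom) (inferInstanceAs (IsClosedImmersion I.subschemeι))
    hrange (show _ ∈ (G.res (U := OU) U.ι inferInstance rfl).hom.ker from hker)
  have hdimZ : DimLE (Z.hom ≫ t) (n - 1) := fun w => by
    change dimPt ((I.subschemeι ≫ Y.hom) ≫ t) w ≤ _
    rw [Category.assoc, dimPt_comp _ _ _ (bijective_residueFieldMap_of_preimmersion I.subschemeι w)]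
    have hne : I.subschemeι w ≠ genericPoint Y.left := fun e => by
      have h1 : I.subschemeι w ∈ (Set.range U.ι)ᶜ := hrange ▸ ⟨w, rfl⟩
      rw [Scheme.Opens.range_ι, e] at h1
      exact h1 hU
    have := dimPt_add_le (X := Y.left) (Y.hom ≫ t) (I.subschemeι w) 1 (by exact_mod_cast one_le_dim_stalk hne)
    push_cast at this
    omega
  have hzero : (φ.app Z).hom z = 0 :=
    app_eq_zero_of_gen one φ
      (fun W => IsIntegral W.left ∧ ∀ m : ℤ, DimLE (Z.hom ≫ t) m → DimLE (W.hom ≫ t) m)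
      (by simpa only [and_assoc] using hG5 Z) (fun W hW => IH W hW.1 (hW.2 _ hdimZ)) z
  have e := congrArg (φ.app Y).hom hz
  rw [map_app φ i, hzero, map_zero, map_sub, map_app φ g, h0, map_zero, zero_sub] at e
  exact neg_eq_zero.1 e.symm

/-- The vanishing for a normal quasi-projective integral scheme. -/
theorem app_one_eq_zero_of_normal (hH2 : H.F2) (hG4a : G.F4a one) (hiv : G.ResCompat H φ)
    (hv : G.KillsRegular H t one φ) (hJ : ∀ (Y : Scheme.{u}) (g : Y ⟶ S), LocallyOfFiniteType g →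
      IsOpen {y : Y | IsRegularLocalRing (Y.presheaf.stalk y)})
    (n d : ℤ) (hnd : n ≤ d) (hii : H.VanLE t d)
    (Y : SchFT T) [IsIntegral Y.left] (hY : dimPt (Y.hom ≫ t) (genericPoint Y.left) ≤ n)
    (hN : Pi1.IsNormalScheme Y.left) (hq : QProj (Y.hom ≫ t)) : (φ.app Y).hom (one Y) = 0 := by
  have := isNoetherian_obj Y
  let R : Y.left.Opens := ⟨_, hJ Y.left (Y.hom ≫ t) inferInstance⟩
  let OR : SchFT T := objOf Y R.ι
  have hreg : ∀ r : OR.left, IsRegularLocalRing (OR.left.presheaf.stalk r) := fun r =>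
    have : IsRegularLocalRing (Y.left.presheaf.stalk (R.ι r)) := r.2
    IsRegularLocalRing.of_ringEquiv (asIso (R.ι.stalkMap r)).commRingCatIsoToRingEquiv
  have hqR : QProj (OR.hom ≫ t) := by
    obtain ⟨P, v, q, hv₁, hq₁, hvq⟩ := hq
    refine ⟨P, R.ι ≫ v, q, inferInstance, hq₁, ?_⟩
    rw [Category.assoc, hvq]
    exact (Category.assoc _ _ _).symm
  let I := Scheme.IdealSheafData.vanishingIdeal ⟨(R : Set Y.left)ᶜ, R.isOpen.isClosed_compl⟩
  let Z : SchFT T := objOf Y I.subschemeι
  let i : Z ⟶ Y := MorphismProperty.Over.homMk I.subschemeι rfl inferInstance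
  have hrange : Set.range i.left.base = (Set.range R.ι.base)ᶜ := by
    change Set.range I.subschemeι = (Set.range R.ι)ᶜ
    rw [Scheme.IdealSheafData.range_subschemeι, Scheme.Opens.range_ι]
    rfl
  have hdimZ : DimLE (Z.hom ≫ t) (d - 2) := fun w => by
    change dimPt ((I.subschemeι ≫ Y.hom) ≫ t) w ≤ _
    rw [Category.assoc, dimPt_comp _ _ _ (bijective_residueFieldMap_of_preimmersion I.subschemeι w)]
    have hns : ¬ IsRegularLocalRing (Y.left.presheaf.stalk (I.subschemeι w)) := fun e => by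
      have h1 : I.subschemeι w ∈ (Set.range R.ι)ᶜ := hrange ▸ ⟨w, rfl⟩
      rw [Scheme.Opens.range_ι] at h1
      exact h1 e
    have := (hN (I.subschemeι w)).1
    have := (hN (I.subschemeι w)).2
    obtain ⟨k, hk, -⟩ := exists_nat_dim (S := Y.left) (I.subschemeι w)
    have hk2 : 2 ≤ k := by
      by_contra hlt
      refine hns (isRegular_of_isNormal ?_)
      rw [hk]
      exact_mod_cast (by omega : k ≤ 1)
    have := dimPt_add_le (X := Y.left) (Y.hom ≫ t) (I.subschemeι w) k hk.ge
    omega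
  have hres : (H.res (U := OR) R.ι inferInstance rfl).hom ((φ.app Y).hom (one Y)) = 0 := by
    refine (ConcreteCategory.congr_hom (hiv (U := OR) R.ι inferInstance rfl) (one Y)).symm.trans ?_
    change (φ.app OR).hom ((G.res (U := OR) R.ι inferInstance rfl).hom (one Y)) = 0
    rw [hG4a (U := OR) R.ι inferInstance rfl (Or.inl ‹_›)]
    exact hv OR hreg hqR
  obtain ⟨z, hz⟩ := hH2 (Z := Z) (X := Y) (U := OR) i R.ι inferInstance (rfl : R.ι ≫ Y.hom = OR.hom) (inferInstanceAs (IsClosedImmersion I.subschemeι))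
    hrange (show _ ∈ (H.res (U := OR) R.ι inferInstance rfl).hom.ker from hres)
  have := hii Z hdimZ
  rw [← hz, Subsingleton.elim z 0, map_zero]

variable [AlgebraicGeometry.IsNoetherian S] [S.IsSeparated] [T.IsSeparated] [QuasiCompact t] [IsSeparated t]

theorem isNagata_affine {Y : Scheme.{u}} (g : Y ⟶ S) [LocallyOfFiniteType g]
    (hS : ∀ U : S.affineOpens, CAlg.IsNagata Γ(S, U)) (V : Y.Opens) (hV : IsAffineOpen V) :
    CAlg.IsNagata Γ(Y, V) := by
  have hex : ∀ y : Y, ∃ (U : S.affineOpens) (W : Y.affineOpens), y ∈ (W : Y.Opens) ∧ (W : Y.Opens) ≤ g ⁻¹ᵁ U.1 := by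
    intro y
    obtain ⟨U, hU, hyU, -⟩ := exists_isAffineOpen_mem_and_subset (X := S) (x := g y) (U := ⊤) trivial
    obtain ⟨W, hW, hyW, hWU⟩ := exists_isAffineOpen_mem_and_subset (U := g ⁻¹ᵁ U) (x := y) hyU
    exact ⟨⟨U, hU⟩, ⟨W, hW⟩, hyW, hWU⟩
  choose U W hyW hWU using hex
  refine S9833.result Y (fun y => (W y).1) (top_le_iff.1 fun y _ => Opens.mem_iSup.2 ⟨y, hyW y⟩)
    (fun y => (W y).2) (fun y => ?_) V hV
  have h := HasRingHomProperty.appLE @LocallyOfFiniteType g ‹_› (U y) (W y) (hWU y)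
  algebraize [(g.appLE (U y).1 (W y).1 (hWU y)).hom]
  exact S0566.result _ (hS (U y)) _

omit [AlgebraicGeometry.IsNoetherian T] [IsLocallyNoetherian S] in
theorem bijective_residueFieldMap_of_isIso_restrict {X Y : Scheme.{u}} (f : X ⟶ Y) (U : Y.Opens) (x : X)
    (hx : f x ∈ U) [IsIso (f ∣_ U)] : Function.Bijective (f.residueFieldMap x) := by
  have : IsPreimmersion ((f ⁻¹ᵁ U).ι ≫ f) := by rw [← morphismRestrict_ι f U]; infer_instance
  have h1 := bijective_residueFieldMap_of_preimmersion ((f ⁻¹ᵁ U).ι ≫ f) ⟨x, hx⟩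
  rw [Scheme.residueFieldMap_comp] at h1
  have h2 := bijective_residueFieldMap_of_preimmersion (f ⁻¹ᵁ U).ι ⟨x, hx⟩
  exact (Function.Bijective.of_comp_iff' h2 _).1 h1

/-- The main statement. -/
theorem app_one_eq_zero (hqe : ∀ U : S.affineOpens, EGA4.IsQuasiExcellent Γ(S, U))
    (hG2 : G.F2) (hH2 : H.F2) (hG3 : G.F3) (hG4a : G.F4a one) (hG4b : G.F4b one) (hG5 : G.F5 t one)
    (d : ℤ) (hii : H.VanLE t d) (hiv : G.ResCompat H φ) (hv : G.KillsRegular H t one φ) :
    ∀ (k : ℕ) (Y : SchFT T), IsIntegral Y.left → DimLE (Y.hom ≫ t) (d - 2 + k) → d - 2 + k ≤ d →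
      (φ.app Y).hom (one Y) = 0 := by
  have hnag : ∀ U : S.affineOpens, CAlg.IsNagata Γ(S, U) := fun U => S2654.result _ (hqe U)
  have hJ := (S12460.result S).1.2 (fun U => (hqe U).2.2)
  intro k
  induction k with
  | zero =>
    intro Y _ hdim _
    have := hii Y (by simpa using hdim)
    exact Subsingleton.elim _ _
  | succ k IH =>
    intro Y hY hdim hle
    have := isNoetherian_obj Y
    obtain ⟨h1, h2, h3⟩ := Y.prop
    have := h1; have := h2; have := h3
    let n : ℤ := d - 2 + (k + 1 : ℕ)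
    have IH' : ∀ W : SchFT T, IsIntegral W.left → DimLE (W.hom ≫ t) (n - 1) → (φ.app W).hom (one W) = 0 :=
      fun W hW hWd => IH W hW (by simpa [n, sub_eq_add_neg, add_assoc] using hWd) (by push_cast at hle ⊢; omega)
    obtain ⟨X', f, hqp, hproj, hsurj, ⟨U, hUd, hUiso⟩, -, -, hint⟩ := S4415.result (Y.hom ≫ t) (Or.inl ‹_›)
    have := hint ‹_›
    have := (S4418.result f hproj).2
    let Y₁ : SchFT T := objOf Y f
    let f₁ : Y₁ ⟶ Y := MorphismProperty.Over.homMk f rfl inferInstance
    have : IsIntegral Y₁.left := inferInstanceAs (IsIntegral X')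
    have hU : genericPoint Y.left ∈ U := by
      obtain ⟨x, hx⟩ := hUd.nonempty
      exact ((genericPoint_spec Y.left).mem_open_set_iff U.isOpen).2 ⟨f x, trivial, hx⟩
    have hgen₁ : f (genericPoint X') = genericPoint Y.left := by
      have := ((genericPoint_spec X').image f.continuous)
      rw [Set.image_univ, f.surjective.range_eq, closure_univ] at this
      exact this.eq (genericPoint_spec Y.left)
    have hres₁ : Function.Bijective (f.residueFieldMap (genericPoint X')) :=
      bijective_residueFieldMap_of_isIso_restrict f U _ (by rw [hgen₁]; exact hU)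
    have hdim₁ : dimPt (Y₁.hom ≫ t) (genericPoint X') ≤ n := by
      change dimPt ((f ≫ Y.hom) ≫ t) (genericPoint X') ≤ n
      rw [Category.assoc, dimPt_comp f _ _ hres₁]
      exact hdim _
    have : IsIso (f₁.left ∣_ U) := hUiso
    refine app_one_eq_zero_of_birational t one φ hG2 hG3 hG4a hG4b hG5 n IH' f₁ (hdim _) U hU ?_
    have := isNoetherian_obj Y₁
    have : AlgebraicGeometry.IsNoetherian X' := this
    obtain ⟨_, _⟩ := fromSpecStalk_qc_qs X' (genericPoint X')
    obtain ⟨hint₂, hnorm, hsν, hgen₂, hres₂⟩ := S2351.result X'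
    let ν := Curv2.normalizationι X'
    have hN2 : ∀ (W : X'.Opens), IsAffineOpen W → ∀ (hne : Nonempty ↥W),
        @CAlg.IsN2 Γ(X', W) _ (@IsIntegral.component_integral X' _ W hne) := fun W hW hne =>
      have := @IsIntegral.component_integral X' _ W hne
      CAlg1.Nag.isN2_of_isNagata (isNagata_affine (Y₁.hom ≫ t) hnag W hW)
    have : IsFinite ν := S9688.result X' hN2
    obtain ⟨W, hW, hyW, -⟩ := exists_isAffineOpen_mem_and_subset (X := X') (x := genericPoint X') (U := ⊤) trivial
    have : Nonempty W := ⟨⟨_, hyW⟩⟩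
    have := functionField_isFractionRing_of_isAffineOpen X' W hW
    obtain ⟨V, hVd, hViso⟩ := VarNorm.exists_dense_open_isIso X' W hW
      (CAlg5.IsN2.finite (hN2 W hW ‹_›) X'.functionField X'.functionField)
    have hV : genericPoint X' ∈ V := by
      obtain ⟨x, hx⟩ := hVd.nonempty
      exact ((genericPoint_spec X').mem_open_set_iff V.isOpen).2 ⟨x, trivial, hx⟩
    let Y₂ : SchFT T := objOf Y₁ ν
    let f₂ : Y₂ ⟶ Y₁ := MorphismProperty.Over.homMk ν rfl inferInstance
    have : IsIntegral Y₂.left := hint₂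
    have : IsIso (f₂.left ∣_ V) := hViso
    refine app_one_eq_zero_of_birational t one φ hG2 hG3 hG4a hG4b hG5 n IH' f₂ hdim₁ V hV ?_
    refine app_one_eq_zero_of_normal t one φ hH2 hG4a hiv hv hJ n d hle hii Y₂ ?_ hnorm ?_
    · change dimPt ((ν ≫ Y₁.hom) ≫ t) (genericPoint (Curv2.normalization X')) ≤ n
      rw [Category.assoc, dimPt_comp ν _ _ hres₂, hgen₂]
      exact hdim₁
    · obtain ⟨P, j, gP, hj, hgP, hjg⟩ := S9706.result (f ≫ Y.hom ≫ t) hqp
      have := (S4418.result gP hgP).2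
      have := LocallyOfFiniteType.isLocallyNoetherian gP
      have := QuasiCompact.compactSpace_of_compactSpace gP
      have : AlgebraicGeometry.IsNoetherian P := {}
      obtain ⟨P', j', π, hj', -, hπ, hjπ⟩ := S0385.result (ν ≫ j)
      refine ⟨P', j', π ≫ gP, hj', S9708.result π gP (S4452.result π) hgP, ?_⟩
      rw [← Category.assoc, hjπ, Category.assoc, hjg]
      exact ((Category.assoc ν (f ≫ Y.hom) t).trans (congrArg (ν ≫ ·) (Category.assoc f Y.hom t))).symm

end Groth.Agent.DetReg4
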